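import Groth.Agent.Lib.KInj.Adjoint

/-! # The derived adjunction of an exact left adjoint out of an arbitrary abelian category -/

universe w w' v v' u u'

open CategoryTheory CategoryTheory.Limits HomologicalComplex HomotopyCategory GrothLib.KInj

namespace GrothLib.DerAdj28

variable {A : Type u} [Category.{v} A] [Abelian A] {B : Type u'} [Category.{v'} B] [Abelian B]
  {L : B ⥤ A} {G : A ⥤ B} (adj : L ⊣ G) [L.Additive] [G.Additive]
  [PreservesFiniteLimits L] [PreservesFiniteColimits L]
  [IsGrothendieckAbelian.{v} A] [HasDerivedCategory.{w} A] [HasDerivedCategory.{w'} B]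

include adj in
/-- The derived functor of an exact left adjoint into a Grothendieck abelian category is a left adjoint. -/
theorem isLeftAdjoint_mapDerivedCategory : L.mapDerivedCategory.IsLeftAdjoint := by
  refine Functor.isLeftAdjoint_of_rightAdjointObjIsDefined_eq_top (funext fun Y => ?_)
  simp only [Pi.top_apply, Prop.top_eq_true, eq_iff_iff, iff_true]
  rw [Functor.rightAdjointObjIsDefined_iff]
  let I := (res A).obj Y
  let GI := (G.mapHomotopyCategory (ComplexShape.up ℤ)).obj I
  let W : DerivedCategory B := DerivedCategory.Qh.obj GI
  let c : (L.mapHomotopyCategory (ComplexShape.up ℤ)).obj GI ⟶ I := (mapHomotopyAdj adj).counit.app I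
  let ε : L.mapDerivedCategory.obj W ⟶ Y :=
    L.mapDerivedCategoryFactorsh.hom.app GI ≫ DerivedCategory.Qh.map c ≫ (resAdj A).counit.app Y
  have hGI := rightOrthogonal_map adj (rightOrthogonal_res (A := A) Y)
  have hb : ∀ X : DerivedCategory B, Function.Bijective
      (fun f : X ⟶ W => L.mapDerivedCategory.map f ≫ ε) := by
    intro X
    haveI := Localization.essSurj (DerivedCategory.Qh (C := B)) (subcategoryAcyclic B).trW
    let Z := DerivedCategory.Qh.objPreimage X
    let e : DerivedCategory.Qh.obj Z ≅ X := DerivedCategory.Qh.objObjPreimageIso X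
    have hZ : Function.Bijective
        (fun f : DerivedCategory.Qh.obj Z ⟶ W => L.mapDerivedCategory.map f ≫ ε) := by
      have h1 := hGI.map_bijective_of_isTriangulated DerivedCategory.Qh Z
      refine (Function.Bijective.of_comp_iff _ h1).1 ?_
      have h2 : Function.Bijective fun g : Z ⟶ GI =>
          DerivedCategory.Qh.map ((L.mapHomotopyCategory (ComplexShape.up ℤ)).map g ≫ c) ≫
            (resAdj A).counit.app Y := by
        have := (((mapHomotopyAdj adj).homEquiv Z I).symm.trans ((resAdj A).homEquiv _ Y).symm).bijective
        refine (congrArg Function.Bijective (funext fun g => ?_)).mp this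
        simp only [Equiv.trans_apply, Adjunction.homEquiv_counit]
        rfl
      refine (congrArg Function.Bijective (funext fun g => ?_)).mpr
        ((Iso.homFromEquiv (L.mapDerivedCategoryFactorsh.app Z).symm).bijective.comp h2)
      simp only [Function.comp_apply, Iso.homFromEquiv_apply, Iso.symm_inv, Iso.app_hom]
      refine ((L.mapDerivedCategoryFactorsh.hom.naturality_assoc g _).trans (congrArg (_ ≫ ·) ?_))
      simp [c]
    refine (congrArg Function.Bijective (funext fun f => ?_)).mpr
      (((Iso.homFromEquiv (L.mapDerivedCategory.mapIso e)).bijective.comp hZ).comp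
        (Iso.homFromEquiv e.symm).bijective)
    simp
  exact Functor.RepresentableBy.isRepresentable
    { homEquiv := fun {X} => Equiv.ofBijective _ (hb X)
      homEquiv_comp := fun {X X'} f g => by simp }

end GrothLib.DerAdj28
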